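import Groth.Agent.FormalSysLib.Left
import Groth.Agent.InvLimLib.Basic
import Groth.Agent.InvSysLib.FG

/-!
# Inverse limits of quasi-coherent formal modules
-/

set_option autoImplicit false

universe u

open CategoryTheory CategoryTheory.Limits AlgebraicGeometry TopologicalSpace Opposite
open Groth.Agent.CohBase Groth.Agent.ProjCoh Groth.Agent.QCohLib

noncomputable section

namespace Groth.Agent.FormalSys

section Limit

variable {X : Scheme.{u}} (G : ℕᵒᵖ ⥤ X.Modules) (U : X.Opens)

/-- Sections over an open, as a functor. -/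
abbrev secFun : X.Modules ⥤ AddCommGrpCat.{u} :=
  Scheme.Modules.toPresheaf X ⋙ (evaluation _ _).obj (op U)

instance : PreservesLimitsOfShape ℕᵒᵖ (secFun U) := by
  haveI := preservesLimitsOfSize_shrink.{0, u, 0, u} (Scheme.Modules.toPresheaf X)
  haveI : HasLimitsOfShape ℕᵒᵖ AddCommGrpCat.{u} := inferInstance
  haveI : PreservesLimitsOfShape ℕᵒᵖ ((evaluation (Opens X)ᵒᵖ AddCommGrpCat.{u}).obj (op U)) := inferInstance
  exact @comp_preservesLimitsOfShape _ _ _ _ _ _ _ _ (Scheme.Modules.toPresheaf X) _ inferInstance ‹_›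

theorem limit_sec_ext {x y : Γ(limit G, U)}
    (h : ∀ n : ℕ, (limit.π G (op n)).app U x = (limit.π G (op n)).app U y) : x = y := by
  let hl := isLimitOfPreserves (secFun U) (limit.isLimit G)
  refine Concrete.isLimit_ext _ hl x y fun j => ?_
  obtain ⟨n, rfl⟩ : ∃ n, j = op n := ⟨j.unop, rfl⟩
  exact h n

theorem exists_limit_sec (x : ∀ n : ℕ, Γ(G.obj (op n), U))
    (hx : ∀ {n k : ℕ} (h : n ≤ k), (G.map (homOfLE h).op).app U (x k) = x n) :
    ∃ y : Γ(limit G, U), ∀ n, (limit.π G (op n)).app U y = x n := by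
  let F := G ⋙ secFun U
  let hl := isLimitOfPreserves (secFun U) (limit.isLimit G)
  obtain ⟨z, hz⟩ := InvLimLib.exists_limit F (x := x) (fun i j h => hx h)
  refine ⟨(hl.conePointUniqueUpToIso (limit.isLimit F)).inv z, fun n => ?_⟩
  refine Eq.trans ?_ (hz n)
  exact ConcreteCategory.congr_hom (hl.conePointUniqueUpToIso_inv_comp (limit.isLimit F) (op n)) z

end Limit

variable {A : Type u} [CommRing A] {X : Scheme.{u}} [X.Over (Spec (CommRingCat.of A))]

/-- A criterion for inducing an isomorphism from the quotient by `J`. -/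
theorem exists_isIso_desc' {J : Ideal A} {M N : X.Modules} (g : M ⟶ N)
    (hs : ∀ U : X.Opens, IsAffineOpen U → Function.Surjective (g.app U))
    (hk : ∀ U : X.Opens, IsAffineOpen U → ∀ x, g.app U x = 0 → x ∈ JU J U • (⊤ : Submodule Γ(X, U) Γ(M, U)))
    (hkill : ∀ U : X.Opens, IsAffineOpen U → ∀ a ∈ J, ∀ x, g.app U (φV (FormalLib.cst A X) U a • x) = 0) :
    ∃ w : Formal.smulFamily J M ≫ g = 0, IsIso (cokernel.desc _ g w) := by
  have w : Formal.smulFamily J M ≫ g = 0 := by
    refine Sigma.hom_ext _ _ fun ⟨a, ha⟩ => ?_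
    rw [comp_zero, ← Category.assoc, Formal.smulFamily, Sigma.ι_desc]
    exact hom_ext_affine fun U hU x => hkill U hU a ha x
  haveI : Epi g := epi_of_affine g hs
  obtain ⟨l, hl⟩ := exists_desc_of_epi g (cokernel.π (Formal.smulFamily J M)) (hom_ext_affine fun U hU z => by
    have hz := hk U hU ((kernel.ι g).app U z) congr($(kernel.condition g).app U z)
    rw [app_comp_apply]
    refine Submodule.smul_induction_on (p := fun x => (cokernel.π (Formal.smulFamily J M)).app U x = 0)
      hz (fun r hr x _ => ?_) (fun x y hx hy => by rw [map_add, hx, hy, add_zero])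
    induction hr using Submodule.span_induction generalizing x with
    | mem r hr =>
      obtain ⟨a, ha, rfl⟩ := hr
      have e : Formal.smulMod A M a = Sigma.ι (fun _ : ↥J => M) ⟨a, ha⟩ ≫ Formal.smulFamily J M := by
        simp [Formal.smulFamily]
      show (Formal.smulMod A M a ≫ cokernel.π (Formal.smulFamily J M)).app U x = 0
      rw [e, Category.assoc, cokernel.condition, comp_zero]
      rfl
    | zero => rw [zero_smul, map_zero]
    | add r r' _ _ h h' => rw [add_smul, map_add, h x trivial, h' x trivial, add_zero]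
    | smul b r _ h => rw [smul_eq_mul, mul_smul, Scheme.Modules.Hom.app_smul, h x trivial, smul_zero])
  refine ⟨w, ⟨l, coequalizer.hom_ext ?_, ?_⟩⟩
  · show cokernel.π _ ≫ cokernel.desc _ _ w ≫ l = cokernel.π _ ≫ 𝟙 _
    rw [cokernel.π_desc_assoc, hl, Category.comp_id]
  · refine (cancel_epi g).1 ?_
    exact (Category.assoc _ _ _).symm.trans ((congrArg (· ≫ cokernel.desc _ _ w) hl).trans
      ((cokernel.π_desc _ _ _).trans (Category.comp_id _).symm))

/-- The quotient by a finitely generated ideal, on sections. -/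
theorem app_of_isIso_desc_fg {J : Ideal A} (hJ : J.FG) {M N : X.Modules} (hM : Coh.IsQCoh M) (g : M ⟶ N)
    (h : Formal.smulFamily J M ≫ g = 0) [IsIso (cokernel.desc _ g h)] {U : X.Opens} (hU : IsAffineOpen U) :
    Function.Surjective (g.app U) ∧ ∀ x, g.app U x = 0 ↔ x ∈ JU J U • (⊤ : Submodule Γ(X, U) Γ(M, U)) := by
  classical
  obtain ⟨L, hL⟩ := hJ
  obtain ⟨Q, q, hQ, hq, hkill, huniv, hsec⟩ := FormalLib.exists_quot L M hM
  have hLJ : ∀ a ∈ L, a ∈ J := fun a ha => hL ▸ Submodule.subset_span ha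
  have hcomp : ∀ {a : A}, a ∈ J → Formal.smulMod A M a ≫ g = 0 := fun {a} ha => by
    rw [show Formal.smulMod A M a = Sigma.ι (fun _ : ↥J => M) ⟨a, ha⟩ ≫ Formal.smulFamily J M by
      simp [Formal.smulFamily], Category.assoc, h, comp_zero]
  obtain ⟨l, hl⟩ := huniv _ g fun a ha => hcomp (hLJ a ha)
  have hkillJ : ∀ a ∈ J, Formal.smulMod A M a ≫ q = 0 := fun a ha => by
    rw [← hL] at ha
    refine hom_ext_affine fun V hV x => ?_
    show q.app V (φV (FormalLib.cst A X) V a • x) = 0
    have hx : toSec (FormalLib.cst A X) (φV (FormalLib.cst A X) V a • x) ∈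
        LinearMap.ker (secMap (FormalLib.cst A X) q V) := by
      rw [(hsec V hV).2]
      show a • toSec (FormalLib.cst A X) x ∈ _
      exact Submodule.smul_mem_smul ha trivial
    exact hx
  have w2 : Formal.smulFamily J M ≫ q = 0 := by
    refine Sigma.hom_ext _ _ fun ⟨a, ha⟩ => ?_
    rw [comp_zero, ← Category.assoc, Formal.smulFamily, Sigma.ι_desc]
    exact hkillJ a ha
  let l' : N ⟶ Q := inv (cokernel.desc _ g h) ≫ cokernel.desc _ q w2
  have hl' : g ≫ l' = q := by
    have e : g = cokernel.π (Formal.smulFamily J M) ≫ cokernel.desc _ g h := (cokernel.π_desc _ _ _).symm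
    refine ((congrArg (· ≫ l') e).trans ?_)
    simp only [l', Category.assoc, IsIso.hom_inv_id_assoc]
    exact cokernel.π_desc _ _ _
  have hll : l' ≫ l = 𝟙 N := by
    haveI : Epi g := by
      rw [show g = cokernel.π (Formal.smulFamily J M) ≫ cokernel.desc _ g h from (cokernel.π_desc _ _ _).symm]
      exact epi_comp' coequalizer.π_epi (IsIso.epi_of_iso _)
    rw [← cancel_epi g, ← Category.assoc, hl', hl, Category.comp_id]
  obtain ⟨hs, hk⟩ := hsec U hU
  have e : ∀ x : Γ(M, U), g.app U x = 0 ↔ q.app U x = 0 := fun x =>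
    ⟨fun hx => by rw [← hl', app_comp_apply, hx, map_zero], fun hx => by rw [← hl, app_comp_apply, hx, map_zero]⟩
  refine ⟨fun y => ?_, fun x => ?_⟩
  · obtain ⟨t, ht⟩ : ∃ t : Γ(M, U), q.app U t = l'.app U y := hs (l'.app U y)
    refine ⟨t, ?_⟩
    rw [← hl, app_comp_apply, ht, ← app_comp_apply]
    exact congr($(hll).app U y)
  · rw [e]
    constructor
    · intro hx
      have hmem : toSec (FormalLib.cst A X) x ∈ LinearMap.ker (secMap (FormalLib.cst A X) q U) := hx
      rw [hk] at hmem
      let ε : Sec (FormalLib.cst A X) M U → Γ(M, U) := fun x => x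
      show ε (toSec (FormalLib.cst A X) x) ∈ JU J U • (⊤ : Submodule Γ(X, U) Γ(M, U))
      refine Submodule.smul_induction_on hmem (fun r hr z _ => ?_) (fun z z' hz hz' => ?_)
      · show φV (FormalLib.cst A X) U r • ε z ∈ _
        exact Submodule.smul_mem_smul (Ideal.mem_map_of_mem _ (hL ▸ hr)) trivial
      · exact add_mem hz hz'
    · intro hx
      refine Submodule.smul_induction_on (p := fun x => q.app U x = 0) hx (fun r hr z _ => ?_)
        (fun z z' hz hz' => by rw [map_add, hz, hz', add_zero])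
      induction hr using Submodule.span_induction generalizing z with
      | mem r hr => obtain ⟨a, ha, rfl⟩ := hr; exact congr($(hkillJ a ha).app U z)
      | zero => rw [zero_smul, map_zero]
      | add r r' _ _ hh hh' => rw [add_smul, map_add, hh z trivial, hh' z trivial, add_zero]
      | smul b r _ hh => rw [smul_eq_mul, mul_smul, Scheme.Modules.Hom.app_smul, hh z trivial, smul_zero]

/-- Truncations of the limit of a quasi-coherent formal module. -/
theorem limit_truncation {I : Ideal A} (hI : I.FG) {G : ℕᵒᵖ ⥤ X.Modules} (hG : Formal2.IsQCohFormal I G) (n : ℕ) :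
    ∃ h : Formal.smulFamily (I ^ (n + 1)) (limit G) ≫ limit.π G (op n) = 0, IsIso (cokernel.desc _ _ h) := by
  have hkill : ∀ (m : ℕ) (U : X.Opens) (a : A), a ∈ I ^ (m + 1) → ∀ x : Γ(G.obj (op m), U),
      φV (FormalLib.cst A X) U a • x = 0 := fun m U a ha x => congr($(hG.2.1 m a ha).app U x)
  have hall : ∀ U : X.Opens, IsAffineOpen U → Function.Surjective ((limit.π G (op n)).app U) ∧
      ∀ x, (limit.π G (op n)).app U x = 0 → x ∈ JU (I ^ (n + 1)) U • (⊤ : Submodule Γ(X, U) Γ(limit G, U)) := by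
    intro U hU
    let f : ∀ m : ℕ, Γ(G.obj (op (m + 1)), U) →ₗ[Γ(X, U)] Γ(G.obj (op m), U) := fun m =>
      appLinear (G.map (homOfLE (Nat.le_succ m)).op) U
    let π : ∀ m : ℕ, Γ(limit G, U) →ₗ[Γ(X, U)] Γ(G.obj (op m), U) := fun m => appLinear (limit.π G (op m)) U
    have hf : ∀ m, Function.Surjective (f m) ∧
        LinearMap.ker (f m) = JU I U ^ (m + 1) • (⊤ : Submodule Γ(X, U) Γ(G.obj (op (m + 1)), U)) := fun m => by
      obtain ⟨w, hw⟩ := hG.2.2 m
      obtain ⟨hs, hk⟩ := app_of_isIso_desc_fg (Ideal.FG.pow hI) (hG.1 (m + 1)) (G.map (homOfLE (Nat.le_succ m)).op) w hU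
      refine ⟨hs, ?_⟩
      ext x
      rw [← JU_pow]
      exact hk x
    have hπ : ∀ m, f m ∘ₗ π (m + 1) = π m := fun m => LinearMap.ext fun x =>
      congr($(limit.w G (homOfLE (Nat.le_succ m)).op).app U x)
    obtain ⟨-, hmain⟩ := InvSys.isAdicComplete_and_ker (I := JU I U) (f := f) (π := π)
      (fun m => (hf m).1) (fun m => (hf m).2) hπ (fun x hx => limit_sec_ext G U fun m => (hx m).trans (map_zero _).symm)
      (fun y hy => exists_limit_sec G U y (fun {p k} h => by
        induction h with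
        | refl =>
          show (G.map (homOfLE (le_refl p)).op).app U (y p) = y p
          rw [show (homOfLE (le_refl p)).op = 𝟙 (op p) from rfl, G.map_id]
          rfl
        | @step m h ih =>
          have e : G.map (homOfLE (le_trans h (Nat.le_succ m))).op =
              G.map (homOfLE (Nat.le_succ m)).op ≫ G.map (homOfLE (show p ≤ m from h)).op := by
            rw [← G.map_comp]; rfl
          rw [e, app_comp_apply]
          exact (congrArg ((G.map (homOfLE (show p ≤ m from h)).op).app U) (hy m)).trans ih))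
      (hI.map _)
    refine ⟨(hmain n).1, fun x hx => ?_⟩
    rw [JU_pow, ← (hmain n).2]
    exact hx
  exact exists_isIso_desc' (limit.π G (op n)) (fun U hU => (hall U hU).1) (fun U hU => (hall U hU).2)
    fun U hU a ha x => by rw [smul_app_natural]; exact hkill n U a ha _

omit [X.Over (Spec (CommRingCat.of A))] in
/-- Transitions of a system as composites. -/
theorem map_succ_comp (G : ℕᵒᵖ ⥤ X.Modules) {p m : ℕ} (h : p ≤ m) :
    G.map (homOfLE (h.trans (Nat.le_succ m))).op =
      G.map (homOfLE (Nat.le_succ m)).op ≫ G.map (homOfLE h).op := by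
  rw [← G.map_comp]; rfl

/-- The transition maps of a completion, without finiteness assumptions. -/
theorem modPowπ_map (I : Ideal A) (M : X.Modules) {n k : ℕ} (h : n ≤ k) :
    Formal.modPowπ I (k + 1) M ≫ (Formal.completion I M).map (homOfLE h).op = Formal.modPowπ I (n + 1) M := by
  induction h with
  | refl => exact (congrArg (_ ≫ ·) ((Formal.completion I M).map_id _)).trans (Category.comp_id _)
  | @step m h ih =>
    rw [map_succ_comp _ h]
    have : (Formal.completion I M).map (homOfLE (Nat.le_succ m)).op = Formal.modPowTrans I (m + 1) M :=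
      Functor.ofOpSequence_map_homOfLE_succ _ m
    rw [this]
    show Formal.modPowπ I (m + 1 + 1) M ≫ Formal.modPowTrans I (m + 1) M ≫ _ = _
    exact (Category.assoc _ _ _).symm.trans
      ((congrArg (· ≫ (Formal.completion I M).map (homOfLE h).op) (Formal.modPowπ_trans I (m + 1) M)).trans ih)

section TorsionFree

variable (f : A) (G : ℕᵒᵖ ⥤ X.Modules) (i : ∀ n : ℕ, G.obj (op n) ⟶ G.obj (op (n + 1)))

/-- Transitions and killing exponents of a torsion-free type system. -/
theorem torsionFree_transitions (hqc : ∀ n : ℕᵒᵖ, Coh.IsQCoh (G.obj n)) [∀ n, Mono (i n)]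
    (hif : ∀ n, G.map (homOfLE (Nat.le_succ n)).op ≫ i n = Formal.smulMod A (G.obj (op (n + 1))) f)
    (hw : ∀ n, i n ≫ G.map (homOfLE (Nat.zero_le (n + 1))).op = 0)
    (hse : ∀ n, (ShortComplex.mk (i n) (G.map (homOfLE (Nat.zero_le (n + 1))).op) (hw n)).ShortExact)
    (n : ℕ) {U : X.Opens} (hU : IsAffineOpen U) :
    (∀ y : Γ(G.obj (op n), U), φV (FormalLib.cst A X) U f ^ (n + 1) • y = 0) ∧
      Function.Surjective ((G.map (homOfLE (Nat.le_succ n)).op).app U) ∧
      ∀ x, (G.map (homOfLE (Nat.le_succ n)).op).app U x = 0 → ∃ z, x = φV (FormalLib.cst A X) U f ^ (n + 1) • z := by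
  let φ : ∀ U : X.Opens, A →+* Γ(X, U) := fun U => φV (FormalLib.cst A X) U
  let t : ∀ {p k : ℕ}, p ≤ k → (G.obj (op k) ⟶ G.obj (op p)) := fun {p k} h => G.map (homOfLE h).op
  have hif' : ∀ (n : ℕ) (U : X.Opens) (x : Γ(G.obj (op (n + 1)), U)),
      (i n).app U ((t (Nat.le_succ n)).app U x) = φ U f • x := fun n U x => congr($(hif n).app U x)
  -- the bottom term is killed by `f`
  have htsurj : ∀ (n : ℕ) {U : X.Opens}, IsAffineOpen U → Function.Surjective ((t (Nat.zero_le (n + 1))).app U) :=
    fun n U hU => app_surjective (hse n) (hqc _) hU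
  have hker0 : ∀ (n : ℕ) (U : X.Opens) (x : Γ(G.obj (op (n + 1)), U)), (t (Nat.zero_le (n + 1))).app U x = 0 →
      ∃ y, (i n).app U y = x := fun n U x hx => app_exact (hse n) U x hx
  have ht0 : ∀ (n : ℕ) (U : X.Opens) (y : Γ(G.obj (op n), U)), (t (Nat.zero_le (n + 1))).app U ((i n).app U y) = 0 :=
    fun n U y => congr($(hw n).app U y)
  have hkill : ∀ (n : ℕ) {U : X.Opens}, IsAffineOpen U → ∀ y : Γ(G.obj (op n), U), φ U f ^ (n + 1) • y = 0 := by
    intro n U hU
    induction n with
    | zero =>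
      intro y
      obtain ⟨x, rfl⟩ := htsurj 0 hU y
      rw [pow_one, ← Scheme.Modules.Hom.app_smul, ← hif' 0]
      exact ht0 0 U _
    | succ n ih =>
      intro y
      rw [pow_succ, mul_smul, ← hif' n, ← Scheme.Modules.Hom.app_smul, ih, map_zero]
  have htr : ∀ (n : ℕ) {U : X.Opens}, IsAffineOpen U → Function.Surjective ((t (Nat.le_succ n)).app U) ∧
      ∀ x, (t (Nat.le_succ n)).app U x = 0 → ∃ z, x = φ U f ^ (n + 1) • z := by
    intro n U hU
    induction n with
    | zero =>
      refine ⟨htsurj 0 hU, fun x hx => ?_⟩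
      obtain ⟨y, rfl⟩ := hker0 0 U x hx
      obtain ⟨z, rfl⟩ := htsurj 0 hU y
      exact ⟨z, by rw [pow_one, ← hif' 0]⟩
    | succ n ih =>
      have e : ∀ x, (t (Nat.zero_le (n + 2))).app U x = (t (Nat.zero_le (n + 1))).app U ((t (Nat.le_succ (n + 1))).app U x) :=
        fun x => congr($(map_succ_comp G (Nat.zero_le (n + 1))).app U x)
      have hstep : ∀ y, ∃ x z, y = (t (Nat.le_succ (n + 1))).app U x + φ U f • z := by
        intro y
        obtain ⟨x, hx⟩ := htsurj (n + 1) hU ((t (Nat.zero_le (n + 1))).app U y)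
        obtain ⟨w, hw'⟩ := hker0 n U (y - (t (Nat.le_succ (n + 1))).app U x) (by rw [map_sub, ← e, hx, sub_self])
        obtain ⟨w', rfl⟩ := ih.1 w
        exact ⟨x, w', by rw [← hif' n, hw', add_sub_cancel]⟩
      have hiter : ∀ (k : ℕ) y, ∃ x z, y = (t (Nat.le_succ (n + 1))).app U x + φ U f ^ k • z := by
        intro k
        induction k with
        | zero => exact fun y => ⟨0, y, by rw [map_zero, pow_zero, one_smul, zero_add]⟩
        | succ k ihk =>
          intro y
          obtain ⟨x, z, rfl⟩ := ihk y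
          obtain ⟨x', z', rfl⟩ := hstep z
          exact ⟨x + φ U f ^ k • x', z', by
            rw [map_add, Scheme.Modules.Hom.app_smul, smul_add, ← mul_smul, ← pow_succ, add_assoc]⟩
      have hs : Function.Surjective ((t (Nat.le_succ (n + 1))).app U) := fun y => by
        obtain ⟨x, z, rfl⟩ := hiter (n + 2) y
        exact ⟨x, by rw [hkill (n + 1) hU, add_zero]⟩
      refine ⟨hs, fun x hx => ?_⟩
      obtain ⟨w, rfl⟩ := hker0 (n + 1) U x (by rw [e, hx, map_zero])
      obtain ⟨z, rfl⟩ := hs w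
      rw [hif' (n + 1)] at hx ⊢
      rw [Scheme.Modules.Hom.app_smul, ← hif' n] at hx
      obtain ⟨u, hu⟩ := ih.2 _ (app_injective_of_mono (i n) U (hx.trans (map_zero _).symm))
      obtain ⟨u', rfl⟩ := hs u
      rw [← Scheme.Modules.Hom.app_smul] at hu
      have hz : φ U f • (z - φ U f ^ (n + 1) • u') = 0 := by
        rw [← hif' (n + 1), map_sub, hu, sub_self, map_zero]
      refine ⟨u', ?_⟩
      rw [smul_sub, sub_eq_zero, ← mul_smul, ← pow_succ'] at hz
      exact hz
  exact ⟨hkill n hU, htr n hU⟩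

end TorsionFree

/-- A system with the structure of an `f`-torsion-free module comes from one. -/
theorem exists_torsionFree (f : A) (G : ℕᵒᵖ ⥤ X.Modules) (hqc : ∀ n : ℕᵒᵖ, Coh.IsQCoh (G.obj n))
    (h1 : ∀ n : ℕ, ∃ i : G.obj (op n) ⟶ G.obj (op (n + 1)), Mono i ∧
      G.map (homOfLE (Nat.le_succ n)).op ≫ i = Formal.smulMod A (G.obj (op (n + 1))) f ∧
      ∃ w : i ≫ G.map (homOfLE (Nat.zero_le (n + 1))).op = 0,
        (ShortComplex.mk i (G.map (homOfLE (Nat.zero_le (n + 1))).op) w).ShortExact) :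
    ∃ F : X.Modules, Mono (Formal.smulMod A F f) ∧
      Nonempty (Formal.completion (Ideal.span ({f} : Set A)) F ≅ G) := by
  classical
  choose i hi hif hw hse using h1
  have hall := fun (n : ℕ) {U : X.Opens} (hU : IsAffineOpen U) => torsionFree_transitions f G i hqc hif hw hse n hU
  obtain ⟨J, hJ⟩ : ∃ J, J = Ideal.span ({f} : Set A) := ⟨_, rfl⟩
  rw [← hJ]
  have hmem : ∀ {n : ℕ} {U : X.Opens} {a : A}, a ∈ J ^ (n + 1) → IsAffineOpen U → ∀ y : Γ(G.obj (op n), U),
      φV (FormalLib.cst A X) U a • y = 0 := fun {n U a} ha hU y => by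
    rw [hJ, Ideal.span_singleton_pow] at ha
    obtain ⟨c, rfl⟩ := Ideal.mem_span_singleton'.1 ha
    rw [map_mul, map_pow, mul_smul, (hall n hU).1, smul_zero]
  have hpow : ∀ (n : ℕ) (U : X.Opens), φV (FormalLib.cst A X) U f ^ (n + 1) ∈ JU (J ^ (n + 1)) U := fun n U => by
    rw [← map_pow]
    exact Ideal.mem_map_of_mem _ (Ideal.pow_mem_pow (hJ ▸ Ideal.subset_span rfl) _)
  have hG : Formal2.IsQCohFormal J G := by
    refine ⟨fun n => hqc _, fun n a ha => hom_ext_affine fun U hU x => hmem ha hU x, fun n => ?_⟩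
    refine exists_isIso_desc' _ (fun U hU => (hall n hU).2.1) (fun U hU x hx => ?_) fun U hU a ha x => ?_
    · obtain ⟨z, rfl⟩ := (hall n hU).2.2 x hx
      exact Submodule.smul_mem_smul (hpow n U) trivial
    · rw [Scheme.Modules.Hom.app_smul]
      exact hmem ha hU _
  have hI : J.FG := ⟨{f}, by simp [hJ]⟩
  refine ⟨limit G, Preadditive.mono_of_cancel_zero _ fun {P} g hg => limit.hom_ext fun ⟨n⟩ => ?_, ?_⟩
  · rw [zero_comp, ← cancel_mono (i n), zero_comp, ← limit.w G (homOfLE (Nat.le_succ n)).op, Category.assoc,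
      Category.assoc, hif n]
    show g ≫ limit.π G (op (n + 1)) ≫ Formal.smulMod A (G.obj (op (n + 1))) f = 0
    rw [← FormalLib.smulMod_natural, ← Category.assoc, hg, zero_comp]
  · choose hz hiso using fun n => limit_truncation hI hG n
    let comp : ∀ n : ℕᵒᵖ, (Formal.completion J (limit G)).obj n ≅ G.obj n := fun n =>
      @asIso _ _ _ _ (cokernel.desc _ (limit.π G (op n.unop)) (hz n.unop)) (hiso n.unop)
    have hcomp : ∀ n : ℕ, Formal.modPowπ J (n + 1) (limit G) ≫ (comp (op n)).hom = limit.π G (op n) := fun n =>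
      cokernel.π_desc _ _ _
    refine ⟨NatIso.ofComponents comp (fun {a b} q => ?_)⟩
    obtain ⟨n', rfl⟩ : ∃ n', a = op n' := ⟨a.unop, rfl⟩
    obtain ⟨n, rfl⟩ : ∃ n, b = op n := ⟨b.unop, rfl⟩
    have hle : n ≤ n' := leOfHom q.unop
    obtain rfl : q = (homOfLE hle).op := Subsingleton.elim _ _
    haveI : Epi (Formal.modPowπ J (n' + 1) (limit G)) := by
      unfold Formal.modPowπ; exact coequalizer.π_epi
    refine (cancel_epi (Formal.modPowπ J (n' + 1) (limit G))).1 ?_
    refine (Category.assoc _ _ _).symm.trans ((congrArg (· ≫ (comp (op n)).hom)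
      (modPowπ_map J (limit G) hle)).trans ((hcomp n).trans ?_))
    refine Eq.trans ?_ (Category.assoc _ _ _)
    refine Eq.trans ?_ (congrArg (· ≫ G.map (homOfLE hle).op) (hcomp n').symm)
    exact (limit.w G (homOfLE hle).op).symm

end Groth.Agent.FormalSys
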